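import Groth.Agent.Misc4Norm.Mul

/-!
The determinant over `A` of an endomorphism of `B^k`, and the wedge of blocks.
-/

set_option autoImplicit false
set_option linter.style.haveILetI false

universe u

open scoped TensorProduct

namespace Groth.Misc4Norm

variable {A B : Type u} [CommRing A] [CommRing B] [Algebra A B] {n k : ℕ}

/-- The blockwise map `A^(n*k) → B^k` of `u : A^n → B`. -/
noncomputable def blockU (u : (Fin n → A) →ₗ[A] B) :
    (Fin (n * k) → A) →ₗ[A] (Fin k → B) :=
  LinearMap.pi fun i => u ∘ₗ LinearMap.funLeft A A fun j => finProdFinEquiv (j, i)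

/-- The blockwise map `B^k → A^(n*k)` of `v : B → A^n`. -/
noncomputable def blockV (v : B →ₗ[A] (Fin n → A)) :
    (Fin k → B) →ₗ[A] (Fin (n * k) → A) :=
  LinearMap.pi fun l => LinearMap.proj (finProdFinEquiv.symm l).1 ∘ₗ v ∘ₗ
    LinearMap.proj (finProdFinEquiv.symm l).2

theorem blockU_apply (u : (Fin n → A) →ₗ[A] B) (c : Fin (n * k) → A) (i : Fin k) :
    blockU (k := k) u c i = u fun j => c (finProdFinEquiv (j, i)) := rfl

theorem blockV_apply (v : B →ₗ[A] (Fin n → A)) (y : Fin k → B) (j : Fin n) (i : Fin k) :
    blockV v y (finProdFinEquiv (j, i)) = v (y i) j := by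
  show v (y (finProdFinEquiv.symm (finProdFinEquiv (j, i))).2) (finProdFinEquiv.symm (finProdFinEquiv (j, i))).1 = _
  rw [Equiv.symm_apply_apply]

theorem blockU_single (u : (Fin n → A) →ₗ[A] B) (j : Fin n) (i : Fin k) :
    blockU (k := k) u (Pi.single (finProdFinEquiv (j, i)) 1) = Pi.single i (u (Pi.single j 1)) := by
  funext i'
  rw [blockU_apply]
  rcases eq_or_ne i' i with rfl | h
  · rw [Pi.single_eq_same]
    congr 1
    funext j'
    simp [Pi.single_apply]
  · rw [Pi.single_eq_of_ne h]
    convert u.map_zero using 2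
    funext j'
    simp [h]

theorem isQI_block {t : A} {u : (Fin n → A) →ₗ[A] B} {v : B →ₗ[A] (Fin n → A)} (h : IsQI t u v) :
    IsQI t (blockU (k := k) u) (blockV v) := by
  constructor
  · intro c
    funext l
    obtain ⟨⟨j, i⟩, rfl⟩ := finProdFinEquiv.surjective l
    rw [blockV_apply, blockU_apply, h.1]
    rfl
  · intro y
    funext i
    rw [blockU_apply]
    have : (fun j => blockV v y (finProdFinEquiv (j, i))) = v (y i) :=
      funext fun j => blockV_apply v y j i
    rw [this, h.2]
    rfl

/-- A family of blocks as vectors of `B^k`. -/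
noncomputable def blocks (w : Fin k → Fin n → B) (l : Fin (n * k)) : Fin k → B :=
  Pi.single (finProdFinEquiv.symm l).2 (w (finProdFinEquiv.symm l).2 (finProdFinEquiv.symm l).1)

theorem blocks_apply (w : Fin k → Fin n → B) (j : Fin n) (i : Fin k) :
    blocks w (finProdFinEquiv (j, i)) = Pi.single i (w i j) := by
  simp [blocks]

/-- The determinant of a family in `B`, seen through `v`. -/
noncomputable def detThrough (v : B →ₗ[A] (Fin n → A)) (x : Fin n → B) : A :=
  (Matrix.of fun r j => v (x j) r).det

theorem smul_ιMulti {t : A} {u : (Fin n → A) →ₗ[A] B} {v : B →ₗ[A] (Fin n → A)} (h : IsQI t u v)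
    (x : Fin n → B) :
    t ^ n • exteriorPower.ιMulti A n x =
      detThrough v x • exteriorPower.ιMulti A n fun j => u (Pi.single j 1) := by
  rw [← (h.extMap n).2, exteriorPower.map_apply_ιMulti, ιMulti_basis n (Pi.basisFun A (Fin n)),
    map_smul, exteriorPower.map_apply_ιMulti]
  refine congrArg₂ (· • ·) ?_ (congrArg _ (funext fun j => by simp))
  rw [Pi.basisFun_det_apply, detThrough, ← Matrix.det_transpose]
  rfl

theorem smul_ιMulti_blocks {t : A} {u : (Fin n → A) →ₗ[A] B} {v : B →ₗ[A] (Fin n → A)}
    (h : IsQI t u v) (w : Fin k → Fin n → B) :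
    t ^ (n * k) • exteriorPower.ιMulti A (n * k) (blocks w) =
      (∏ i, detThrough v (w i)) •
        exteriorPower.ιMulti A (n * k) fun l => blockU (k := k) u (Pi.single l 1) := by
  rw [← ((isQI_block h).extMap (n * k)).2, exteriorPower.map_apply_ιMulti,
    ιMulti_basis (n * k) (Pi.basisFun A (Fin (n * k))), map_smul, exteriorPower.map_apply_ιMulti]
  congr 1
  · rw [Pi.basisFun_det_apply, ← Matrix.det_transpose,
      ← Matrix.det_submatrix_equiv_self finProdFinEquiv]
    have : ((Matrix.of (blockV v ∘ blocks w) : Matrix (Fin (n * k)) (Fin (n * k)) A).transpose.submatrix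
        finProdFinEquiv finProdFinEquiv) =
        Matrix.blockDiagonal fun i => Matrix.of fun r j => v (w i j) r := by
      ext ⟨r, i⟩ ⟨j, i'⟩
      simp only [Matrix.submatrix_apply, Matrix.transpose_apply, Matrix.of_apply,
        Function.comp_apply, Matrix.blockDiagonal_apply, blocks_apply, blockV_apply]
      rcases eq_or_ne i i' with rfl | hne
      · simp
      · simp [hne]
    exact (congrArg Matrix.det this).trans (Matrix.det_blockDiagonal _)
  · congr 1
    funext l
    simp

/-- The determinant over `A` of a `B`-endomorphism of `B^k` against that of its determinant. -/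
theorem det_block_relation {t : A} {u : (Fin n → A) →ₗ[A] B} {v : B →ₗ[A] (Fin n → A)}
    (h : IsQI t u v) (T : (Fin k → B) →ₗ[B] (Fin k → B)) :
    ∃ e : ℕ, t ^ e *
      (LinearMap.det (blockV v ∘ₗ T.restrictScalars A ∘ₗ blockU (k := k) u) * t ^ n) =
      t ^ e * (LinearMap.det (v ∘ₗ LinearMap.mulRight A (LinearMap.det T) ∘ₗ u) * t ^ (n * k)) := by
  classical
  let A' := Localization.Away t
  let L : B → Matrix (Fin n) (Fin n) A := fun b =>
    LinearMap.toMatrix' (v ∘ₗ LinearMap.mulRight A b ∘ₗ u)
  have hone : L 1 = t • 1 := by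
    have : v ∘ₗ LinearMap.mulRight A 1 ∘ₗ u = t • LinearMap.id :=
      LinearMap.ext fun x => by simp [h.1]
    simp only [L]
    rw [this, map_smul, LinearMap.toMatrix'_id]
  have hmul : ∀ b c, L b * L c = t • L (b * c) := by
    intro b c
    simp only [L]
    rw [← LinearMap.toMatrix'_comp, ← map_smul]
    congr 1
    refine LinearMap.ext fun x => ?_
    simp only [LinearMap.comp_apply, LinearMap.mulRight_apply, h.2, LinearMap.smul_apply,
      ← map_smul]
    congr 1
    rw [smul_mul_assoc, mul_assoc, mul_comm c b]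
  obtain ⟨x, hx⟩ := (IsLocalization.Away.algebraMap_isUnit (S := A') t).exists_left_inv
  let φ := algebraMap A A'
  let ρ : B →+* Matrix (Fin n) (Fin n) A' :=
    { toFun := fun b => x • (L b).map φ
      map_zero' := by simp [L]
      map_add' := fun b c => by
        have : L (b + c) = L b + L c := by
          simp only [L, ← map_add]
          congr 1
          exact LinearMap.ext fun y => by simp [mul_add]
        simp [this, Matrix.map_add, smul_add]
      map_one' := by
        rw [hone]
        ext r j
        rcases eq_or_ne r j with rfl | hrj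
        · simpa [φ] using hx
        · simp [hrj]
      map_mul' := fun b c => by
        rw [Matrix.smul_mul, Matrix.mul_smul, ← Matrix.map_mul, hmul, smul_smul,
          show (t • L (b * c)).map φ = φ t • (L (b * c)).map φ by ext r j; simp, smul_smul]
        congr 1
        linear_combination -x * hx }
  have hL : ∀ b, (L b).map φ = φ t • ρ b := fun b => by
    show _ = φ t • x • (L b).map φ
    rw [smul_smul, mul_comm, hx, one_smul]
  let M₀ : Matrix (Fin k) (Fin k) B := LinearMap.toMatrix' T
  have hR : φ (LinearMap.det (v ∘ₗ LinearMap.mulRight A (LinearMap.det T) ∘ₗ u)) =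
      φ t ^ n * (ρ M₀.det).det := by
    rw [← LinearMap.det_toMatrix', RingHom.map_det, RingHom.mapMatrix_apply,
      show LinearMap.det T = M₀.det from (LinearMap.det_toMatrix' T).symm]
    show Matrix.det ((L M₀.det).map φ) = _
    rw [hL, Matrix.det_smul, Fintype.card_fin]
  have hLdet : φ (LinearMap.det (blockV v ∘ₗ T.restrictScalars A ∘ₗ blockU (k := k) u)) =
      φ t ^ (n * k) * (ρ M₀.det).det := by
    rw [Matrix.det_det, ← LinearMap.det_toMatrix', RingHom.map_det, RingHom.mapMatrix_apply]
    let σ : Fin k × Fin n ≃ Fin (n * k) := (Equiv.prodComm _ _).trans finProdFinEquiv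
    rw [← Matrix.det_submatrix_equiv_self σ]
    have : ((LinearMap.toMatrix' (blockV v ∘ₗ T.restrictScalars A ∘ₗ blockU (k := k) u)).map
        φ).submatrix σ σ = φ t • (M₀.map ρ).comp (Fin k) (Fin k) (Fin n) (Fin n) A' := by
      ext ⟨i, j⟩ ⟨i', j'⟩
      have e1 : T (Pi.single i' (u (Pi.single j' 1))) i = u (Pi.single j' 1) * M₀ i i' := by
        rw [show (Pi.single i' (u (Pi.single j' 1)) : Fin k → B) =
          u (Pi.single j' 1) • Pi.single i' 1 by rw [← Pi.single_smul', smul_eq_mul, mul_one],
          map_smul, Pi.smul_apply, smul_eq_mul]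
        exact congrArg _ (LinearMap.toMatrix'_apply T i i').symm
      have e2 := congrFun (congrFun (hL (M₀ i i')) j) j'
      rw [Matrix.smul_apply, Matrix.map_apply] at e2
      rw [Matrix.smul_apply, Matrix.submatrix_apply, Matrix.map_apply, Matrix.comp_apply,
        Matrix.map_apply, ← e2, LinearMap.toMatrix'_apply]
      simp only [σ, L, Equiv.trans_apply, Equiv.prodComm_apply, Prod.swap_prod_mk,
        LinearMap.toMatrix'_apply, LinearMap.comp_apply, LinearMap.coe_restrictScalars,
        blockU_single, blockV_apply, e1, LinearMap.mulRight_apply]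
    rw [this, Matrix.det_smul, Fintype.card_prod, Fintype.card_fin, Fintype.card_fin, mul_comm k]
  have hkey : φ (LinearMap.det (blockV v ∘ₗ T.restrictScalars A ∘ₗ blockU (k := k) u) * t ^ n) =
      φ (LinearMap.det (v ∘ₗ LinearMap.mulRight A (LinearMap.det T) ∘ₗ u) * t ^ (n * k)) := by
    simp only [map_mul, map_pow, hR, hLdet]
    ring
  obtain ⟨⟨_, e, rfl⟩, he⟩ := IsLocalization.exists_of_eq (M := Submonoid.powers t) hkey
  exact ⟨e, he⟩

end Groth.Misc4Norm
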