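import Groth.Agent.Misc4Norm.Det

/-!
The top exterior power over `A` of a vector bundle on a finite locally free `A`-algebra.
-/

set_option autoImplicit false
set_option synthInstance.maxHeartbeats 200000
set_option maxHeartbeats 3000000
set_option linter.style.haveILetI false

universe u v

open scoped TensorProduct

namespace Groth.Misc4Norm

section Engine

variable {R : Type u} [CommRing R]

theorem exists_pow_smul_eq_zero {ι : Type v} {Q : Type u} [AddCommGroup Q] [Module R Q] (t : R)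
    (F : (ι →₀ R) →ₗ[R] Q) (h : ∀ i, ∃ e : ℕ, t ^ e • F (Finsupp.single i 1) = 0) (z : ι →₀ R) :
    ∃ e : ℕ, t ^ e • F z = 0 := by
  induction z using Finsupp.induction_linear with
  | zero => exact ⟨0, by simp⟩
  | add x y hx hy =>
    obtain ⟨a, ha⟩ := hx
    obtain ⟨b, hb⟩ := hy
    refine ⟨a + b, ?_⟩
    rw [map_add, smul_add]
    conv_lhs => arg 1; rw [add_comm a, pow_add, mul_smul, ha, smul_zero]
    rw [pow_add, mul_smul, hb, smul_zero, add_zero]
  | single i r =>
    obtain ⟨a, ha⟩ := h i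
    exact ⟨a, by rw [show Finsupp.single i r = r • Finsupp.single i 1 by simp, map_smul, smul_comm,
      ha, smul_zero]⟩

/-- An isomorphism of modules from local comparisons of generators valid up to torsion. -/
theorem nonempty_equiv_of_local' {ι : Type v} {L P : Type u} [AddCommGroup L] [Module R L]
    [AddCommMonoid P] [Module R P] (f : ι → L) (g : ι → P)
    (h : ∀ p : PrimeSpectrum R, ∃ t, t ∉ p.asIdeal ∧ ∃ s, s ∉ p.asIdeal ∧
      (∃ φ : L →ₗ[R] P, ∀ i, ∃ e : ℕ, s ^ e • φ (f i) = s ^ e • t • g i) ∧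
      (∃ ψ : P →ₗ[R] L, ∀ i, ∃ e : ℕ, s ^ e • ψ (g i) = s ^ e • t • f i) ∧
      (∀ x, t • x ∈ Submodule.span R (Set.range f)) ∧
      (∀ y, t • y ∈ Submodule.span R (Set.range g))) :
    Nonempty (L ≃ₗ[R] P) := by
  letI : AddCommGroup P := Module.addCommMonoidToAddCommGroup R
  have key : ∀ {Q : Type u} [AddCommGroup Q] [Module R Q] (U : Submodule R Q) (x : Q),
      (∀ p : PrimeSpectrum R, ∃ t, t ∉ p.asIdeal ∧ t • x ∈ U) → x ∈ U := by
    intro Q _ _ U x hx
    let J : Ideal R := U.comap (LinearMap.toSpanSingleton R Q x)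
    by_contra hne
    have hJ : J ≠ ⊤ := fun hT => hne (by
      have : (1 : R) ∈ J := hT ▸ Submodule.mem_top
      simpa [J] using this)
    obtain ⟨m, hm, hle⟩ := Ideal.exists_le_maximal J hJ
    obtain ⟨t, ht, htx⟩ := hx ⟨m, hm.isPrime⟩
    exact ht (hle (by simpa [J] using htx))
  let F := Finsupp.linearCombination R f
  let G := Finsupp.linearCombination R g
  have hF : Function.Surjective F := by
    rw [← LinearMap.range_eq_top, Finsupp.range_linearCombination, eq_top_iff]
    intro x _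
    refine key _ x fun p => ?_
    obtain ⟨t, ht, _, _, _, _, hf, _⟩ := h p
    exact ⟨t, ht, hf x⟩
  have hG : Function.Surjective G := by
    rw [← LinearMap.range_eq_top, Finsupp.range_linearCombination, eq_top_iff]
    intro x _
    refine key _ x fun p => ?_
    obtain ⟨t, ht, _, _, _, _, _, hg⟩ := h p
    exact ⟨t, ht, hg x⟩
  have hp : ∀ (p : PrimeSpectrum R) {t s : R} (e : ℕ), t ∉ p.asIdeal → s ∉ p.asIdeal →
      s ^ e * t ∉ p.asIdeal := fun p t s e ht hs hst =>
    (p.2.mem_or_mem hst).elim (fun h => hs (p.2.mem_of_pow_mem _ h)) ht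
  have hker : LinearMap.ker F = LinearMap.ker G := by
    ext z
    simp only [LinearMap.mem_ker]
    constructor <;> intro hz <;> refine (Submodule.mem_bot R).mp (key ⊥ _ fun p => ?_)
    · obtain ⟨t, ht, s, hs, ⟨φ, hφ⟩, -, -, -⟩ := h p
      obtain ⟨e, he⟩ := exists_pow_smul_eq_zero s (φ ∘ₗ F - t • G) (fun i => by
        obtain ⟨e, he⟩ := hφ i
        exact ⟨e, by simp [F, G, smul_sub, he]⟩) z
      refine ⟨s ^ e * t, hp p e ht hs, (Submodule.mem_bot R).mpr ?_⟩
      simpa [hz, mul_smul] using he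
    · obtain ⟨t, ht, s, hs, -, ⟨ψ, hψ⟩, -, -⟩ := h p
      obtain ⟨e, he⟩ := exists_pow_smul_eq_zero s (ψ ∘ₗ G - t • F) (fun i => by
        obtain ⟨e, he⟩ := hψ i
        exact ⟨e, by simp [F, G, smul_sub, he]⟩) z
      refine ⟨s ^ e * t, hp p e ht hs, (Submodule.mem_bot R).mpr ?_⟩
      simpa [hz, mul_smul] using he
  exact ⟨(F.quotKerEquivOfSurjective hF).symm ≪≫ₗ (Submodule.quotEquivOfEq _ _ hker) ≪≫ₗ
    G.quotKerEquivOfSurjective hG⟩

/-- Comparison of two modules which near a prime are generated by one element each, with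
proportional coordinates of the generators. -/
theorem local_of_rankOne {ι : Type v} {L P : Type u} [AddCommGroup L] [Module R L] [AddCommMonoid P]
    [Module R P] {f : ι → L} {g : ι → P} (p : PrimeSpectrum R) {s a b c d σ : R}
    (hs : s ∉ p.asIdeal) (ha : a ∉ p.asIdeal) (hb : b ∉ p.asIdeal) (hc : c ∉ p.asIdeal)
    (hd : d ∉ p.asIdeal) (hσ : σ ∉ p.asIdeal) (l₀ : L) (g₀ : P) (α : L →ₗ[R] R) (β : P →ₗ[R] R)
    (hl : l₀ ∈ Submodule.span R (Set.range f)) (hg : g₀ ∈ Submodule.span R (Set.range g))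
    (hα : ∀ z, σ • z = α z • l₀) (hβ : ∀ z, σ • z = β z • g₀) (hαl : α l₀ = σ) (hβg : β g₀ = σ)
    (hi : ∀ i, ∃ x y : R, a • f i = x • l₀ ∧ b • g i = y • g₀ ∧
      ∃ e : ℕ, s ^ e * (c * x) = s ^ e * (d * y)) :
    ∃ t, t ∉ p.asIdeal ∧ ∃ s, s ∉ p.asIdeal ∧
      (∃ φ : L →ₗ[R] P, ∀ i, ∃ e : ℕ, s ^ e • φ (f i) = s ^ e • t • g i) ∧
      (∃ ψ : P →ₗ[R] L, ∀ i, ∃ e : ℕ, s ^ e • ψ (g i) = s ^ e • t • f i) ∧
      (∀ x, t • x ∈ Submodule.span R (Set.range f)) ∧
      (∀ y, t • y ∈ Submodule.span R (Set.range g)) := by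
  have hp : ∀ {x y : R}, x ∉ p.asIdeal → y ∉ p.asIdeal → x * y ∉ p.asIdeal := fun hx hy h =>
    (p.2.mem_or_mem h).elim hx hy
  refine ⟨a * b * c * d * σ, hp (hp (hp (hp ha hb) hc) hd) hσ, s, hs,
    ⟨(a * c * (a * c)) • α.smulRight g₀, fun i => ?_⟩, ⟨(b * d * (b * d)) • β.smulRight l₀, fun i => ?_⟩,
    fun x => ?_, fun x => ?_⟩
  · obtain ⟨x, y, hx, hy, e, he⟩ := hi i
    refine ⟨e, ?_⟩
    have h1 : a * α (f i) = x * σ := by
      rw [← hαl, ← smul_eq_mul, ← map_smul, hx, map_smul, smul_eq_mul]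
    rw [LinearMap.smul_apply, LinearMap.smulRight_apply, smul_smul,
      show (a * b * c * d * σ) • g i = (a * c * d * σ) • b • g i by
        rw [smul_smul]; congr 1; ring, hy, smul_smul, smul_smul, smul_smul]
    congr 1
    linear_combination (s ^ e * a * c * c) * h1 + (a * c * σ) * he
  · obtain ⟨x, y, hx, hy, e, he⟩ := hi i
    refine ⟨e, ?_⟩
    have h1 : b * β (g i) = y * σ := by
      rw [← hβg, ← smul_eq_mul, ← map_smul, hy, map_smul, smul_eq_mul]
    rw [LinearMap.smul_apply, LinearMap.smulRight_apply, smul_smul,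
      show (a * b * c * d * σ) • f i = (b * c * d * σ) • a • f i by
        rw [smul_smul]; congr 1; ring, hx, smul_smul, smul_smul, smul_smul]
    congr 1
    linear_combination (s ^ e * b * d * d) * h1 - (b * d * σ) * he
  · rw [mul_smul, hα, smul_smul]
    exact Submodule.smul_mem _ _ hl
  · rw [mul_smul, hβ, smul_smul]
    exact Submodule.smul_mem _ _ hg

end Engine

section Wedge

variable {A B : Type u} [CommRing A] [CommRing B] [Algebra A B] {M : Type u} [AddCommGroup M]
  [Module A M] [Module B M] [IsScalarTower A B M]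

/-- A coordinate on the top exterior power, up to `t`, of a module with a basis up to `t`. -/
theorem exists_coord {R : Type u} [CommRing R] {N : Type u} [AddCommGroup N] [Module R N] {n : ℕ}
    {t : R} {u : (Fin n → R) →ₗ[R] N} {v : N →ₗ[R] (Fin n → R)} (h : IsQI t u v) :
    ∃ α : ⋀[R]^n N →ₗ[R] R,
      α (exteriorPower.ιMulti R n fun j => u (Pi.single j 1)) = t ^ n ∧
      ∀ x, t ^ n • x = α x • exteriorPower.ιMulti R n fun j => u (Pi.single j 1) := by
  classical
  let b := Pi.basisFun R (Fin n)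
  let c : ⋀[R]^n (Fin n → R) →ₗ[R] R := exteriorPower.alternatingMapLinearEquiv b.det
  have hc : ∀ y, y = c y • exteriorPower.ιMulti R n b := by
    have : (LinearMap.id : ⋀[R]^n (Fin n → R) →ₗ[R] _) =
        c.smulRight (exteriorPower.ιMulti R n b) := by
      refine exteriorPower.linearMap_ext ?_
      ext v
      simpa [c] using congrArg Subtype.val (ιMulti_basis n b v)
    exact fun y => LinearMap.congr_fun this y
  have hω : (exteriorPower.ιMulti R n fun j => u (Pi.single j 1)) =
      exteriorPower.map n u (exteriorPower.ιMulti R n b) := by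
    rw [exteriorPower.map_apply_ιMulti]
    congr 1
    funext j
    simp [b]
  refine ⟨c ∘ₗ exteriorPower.map n v, ?_, fun x => ?_⟩
  · rw [LinearMap.comp_apply, hω, (h.extMap n).1, map_smul]
    simp [c, Module.Basis.det_self]
  · rw [LinearMap.comp_apply, hω, ← map_smul, ← hc, (h.extMap n).2]

theorem ιMulti_eq_map_linearCombination {k : ℕ} (m : Fin k → M) :
    exteriorPower.ιMulti B k m = exteriorPower.map k (Fintype.linearCombination B m)
      (exteriorPower.ιMulti B k fun i => Pi.single i 1) := by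
  rw [exteriorPower.map_apply_ιMulti]
  congr 1
  funext i
  simp [Fintype.linearCombination_apply_single]

/-- The top exterior power over `A` of a bundle of rank `k + 1` on `B`. -/
theorem nonempty_norm_higher_equiv [Module.Finite A B] [Module.Projective A B] [Module.Finite B M]
    [Module.Projective B M] (n k : ℕ)
    (hn : ∀ q : PrimeSpectrum A, Module.rankAtStalk B q = n)
    (hM : ∀ q : PrimeSpectrum B, Module.rankAtStalk M q = k + 1) :
    Nonempty ((⋀[A]^(n * (k + 1)) M) ≃ₗ[A]
      (TensorPower A k (⋀[A]^n B)) ⊗[A] (⋀[A]^n (⋀[B]^(k + 1) M))) := by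
  classical
  let N := n * (k + 1)
  let F : (Fin (k + 1) → M) → (Fin (k + 1) → B) →ₗ[B] M := fun m => Fintype.linearCombination B m
  let W : (Fin n → B) → ⋀[A]^n B := fun x => exteriorPower.ιMulti A n x
  let ι := (Fin (k + 1) → M) × (Fin (k + 1) → Fin n → B)
  let f : ι → ⋀[A]^N M := fun i =>
    exteriorPower.map N ((F i.1).restrictScalars A) (exteriorPower.ιMulti A N (blocks i.2))
  let g : ι → (TensorPower A k (⋀[A]^n B)) ⊗[A] (⋀[A]^n (⋀[B]^(k + 1) M)) := fun i =>
    (PiTensorProduct.tprod A fun j => W (i.2 j.castSucc)) ⊗ₜ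
      extMul A n (exteriorPower.ιMulti B (k + 1) i.1) (W (i.2 (Fin.last k)))
  refine nonempty_equiv_of_local' f g fun p => ?_
  obtain ⟨t, ht, u, v, huv⟩ := exists_basis_prime p n (hn p)
  obtain ⟨s, hs, φ, ψ, hφψ⟩ := exists_basis_semilocal A B M (k + 1) hM p
  let φA := φ.restrictScalars A
  let ψA := ψ.restrictScalars A
  have hA : IsQI s φA ψA :=
    ⟨fun x => (hφψ.1 x).trans (algebraMap_smul B s x), fun y => (hφψ.2 y).trans (algebraMap_smul B s y)⟩
  let e : Fin (k + 1) → M := fun i => φ (Pi.single i 1)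
  let w₀ : Fin (k + 1) → Fin n → B := fun _ j => u (Pi.single j 1)
  have hFe : F e = φ := (Pi.basisFun B (Fin (k + 1))).ext fun i => by
    simp [F, e, Fintype.linearCombination_apply_single]
  have hblock : blocks w₀ = fun l => blockU (k := k + 1) u (Pi.single l 1) := by
    funext l
    obtain ⟨⟨j, i⟩, rfl⟩ := finProdFinEquiv.surjective l
    rw [blocks_apply, blockU_single]
  obtain ⟨αB, hαB, hαB'⟩ := exists_coord huv
  obtain ⟨αF, hαF, hαF'⟩ := exists_coord (isQI_block (k := k + 1) huv)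
  obtain ⟨αM, hαM, hαM'⟩ := exists_coord hφψ
  let ω := W fun j => u (Pi.single j 1)
  let Ω := exteriorPower.ιMulti A N fun l => blockU (k := k + 1) u (Pi.single l 1)
  let ε := exteriorPower.ιMulti B (k + 1) e
  have hεQ := isQI_extMul (A := A) n (t := s ^ (k + 1)) (e := ε) (h := αM)
    (fun m => by rw [← algebraMap_smul B, map_pow]; exact hαM' m) (by rw [map_pow]; exact hαM)
  let lα : ⋀[A]^N M →ₗ[A] A := αF ∘ₗ exteriorPower.map N ψA
  let pr : TensorPower A k (⋀[A]^n B) →ₗ[A] A :=
    PiTensorProduct.lift ((MultilinearMap.mkPiAlgebra A (Fin k) A).compLinearMap fun _ => αB)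
  let rβ : (TensorPower A k (⋀[A]^n B)) ⊗[A] (⋀[A]^n (⋀[B]^(k + 1) M)) →ₗ[A] A :=
    (TensorProduct.lid A A).toLinearMap ∘ₗ
      TensorProduct.map pr (αB ∘ₗ exteriorPower.map n (αM.restrictScalars A))
  have hl0 : f (e, w₀) = exteriorPower.map N φA Ω := by
    simp only [f, hFe, hblock, φA, Ω]; rfl
  have hg0 : g (e, w₀) = (PiTensorProduct.tprod A fun _ => ω) ⊗ₜ extMul A n ε ω := rfl
  have hpr : ∀ x, (t ^ n) ^ k • x = pr x • PiTensorProduct.tprod A fun _ : Fin k => ω := by
    intro x
    induction x using PiTensorProduct.induction_on with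
    | smul_tprod r m =>
      rw [smul_comm, map_smul, smul_assoc]
      congr 1
      have : (PiTensorProduct.tprod A fun j => t ^ n • m j) =
          (PiTensorProduct.tprod A fun j => αB (m j) • ω) := congrArg _ (funext fun j => hαB' _)
      rw [MultilinearMap.map_smul_univ, MultilinearMap.map_smul_univ, Finset.prod_const,
        Finset.card_univ, Fintype.card_fin] at this
      rw [this]
      simp [pr]
    | add x y hx hy => rw [smul_add, hx, hy, map_add, add_smul]
  have hσ : (t * s) ^ N = (t ^ n) ^ k * (t ^ n * (s ^ (k + 1)) ^ n) := by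
    rw [mul_pow, ← pow_mul, ← pow_mul, ← mul_assoc, ← pow_add]
    simp only [N]
    congr 1 <;> ring
  have hlα : ∀ z, (t * s) ^ N • z = lα z • f (e, w₀) := fun z => by
    rw [hl0, mul_pow, mul_smul, ← (hA.extMap N).2 z, ← map_smul (exteriorPower.map N φA), hαF', map_smul]
    rfl
  have hlαl : lα (f (e, w₀)) = (t * s) ^ N := by
    rw [hl0, LinearMap.comp_apply, (hA.extMap N).1, map_smul, hαF, smul_eq_mul, mul_pow]
    ring
  have hrβ : ∀ z, (t * s) ^ N • z = rβ z • g (e, w₀) := by
    intro z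
    induction z using TensorProduct.induction_on with
    | zero => simp
    | add x y hx hy => rw [smul_add, hx, hy, map_add, add_smul]
    | tmul a b =>
      rw [hσ, ← TensorProduct.smul_tmul_smul, hpr, mul_smul, ← hεQ.2 b, ← map_smul (extMul A n ε), hαB', map_smul,
        TensorProduct.smul_tmul_smul, hg0]
      simp only [rβ, LinearMap.comp_apply, TensorProduct.map_tmul, LinearEquiv.coe_coe,
        TensorProduct.lid_tmul, smul_eq_mul, ω, W]
  have hrβg : rβ (g (e, w₀)) = (t * s) ^ N := by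
    rw [hg0, hσ]
    simp only [rβ, LinearMap.comp_apply, TensorProduct.map_tmul, LinearEquiv.coe_coe,
      TensorProduct.lid_tmul, smul_eq_mul]
    rw [hεQ.1, map_smul, hαB]
    simp [pr, hαB, ω, W, mul_comm]
  have hpow : ∀ {x : A} (r : ℕ), x ∉ p.asIdeal → x ^ r ∉ p.asIdeal := fun r hx h =>
    hx (p.2.mem_of_pow_mem r h)
  have hmul : ∀ {x y : A}, x ∉ p.asIdeal → y ∉ p.asIdeal → x * y ∉ p.asIdeal := fun hx hy h =>
    (p.2.mem_or_mem h).elim hx hy
  refine local_of_rankOne p (s := t) (a := t ^ (2 * N) * t ^ N * s ^ N)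
    (b := t ^ (2 * n) * (s ^ (k + 1)) ^ n * ((t ^ n) ^ k * t ^ n)) (c := t ^ (2 * n))
    (d := t ^ (2 * N)) (σ := (t * s) ^ N) ht (hmul (hmul (hpow _ ht) (hpow _ ht)) (hpow _ hs))
    (hmul (hmul (hpow _ ht) (hpow _ (hpow _ hs))) (hmul (hpow _ (hpow _ ht)) (hpow _ ht)))
    (hpow _ ht) (hpow _ ht) (hpow _ (hmul ht hs)) (f (e, w₀)) (g (e, w₀)) lα rβ
    (Submodule.subset_span ⟨_, rfl⟩) (Submodule.subset_span ⟨_, rfl⟩) hlα hrβ hlαl hrβg ?_
  rintro ⟨m, w⟩
  let T := ψ ∘ₗ F m
  let b := LinearMap.det T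
  let P := ∏ i, detThrough v (w i)
  let cL := LinearMap.det (blockV v ∘ₗ T.restrictScalars A ∘ₗ blockU (k := k + 1) u)
  let cR := LinearMap.det (v ∘ₗ LinearMap.mulRight A b ∘ₗ u)
  have hFT : φ ∘ₗ T = algebraMap A B s • F m := LinearMap.ext fun y => hφψ.2 _
  refine ⟨P * (cL * t ^ N), P * (cR * t ^ n), ?_, ?_, ?_⟩
  · have h1 : s ^ N • f (m, w) =
        exteriorPower.map N φA (exteriorPower.map N (T.restrictScalars A)
          (exteriorPower.ιMulti A N (blocks w))) := by
      rw [← LinearMap.comp_apply, ← exteriorPower.map_comp]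
      show s ^ N • exteriorPower.map N ((F m).restrictScalars A) _ = _
      rw [← map_smul_eq]
      congr 2
      refine LinearMap.ext fun y => ?_
      exact ((LinearMap.congr_fun hFT y).trans (algebraMap_smul B s _)).symm
    rw [mul_smul, h1, ← map_smul, mul_smul, ← map_smul (exteriorPower.map N (T.restrictScalars A)),
      smul_ιMulti_blocks huv w, map_smul (exteriorPower.map N (T.restrictScalars A)),
      smul_comm,
      map_top_smul N (isQI_block huv), map_smul (exteriorPower.map N φA), map_smul (exteriorPower.map N φA),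
      smul_smul, hl0]
  · have h1 : (s ^ (k + 1)) • exteriorPower.ιMulti B (k + 1) m = b • ε := by
      rw [← algebraMap_smul B, map_pow, ιMulti_eq_map_linearCombination, ← map_smul_eq, ← hFT,
        exteriorPower.map_comp, map_basis_det (k + 1) (Pi.basisFun B (Fin (k + 1))),
        LinearMap.comp_apply, LinearMap.smul_apply, LinearMap.id_apply, map_smul,
        exteriorPower.map_apply_ιMulti]
      rfl
    have h2 : (t ^ (2 * n) * (s ^ (k + 1)) ^ n * t ^ n) •
        extMul A n (exteriorPower.ιMulti B (k + 1) m) (W (w (Fin.last k))) =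
          (detThrough v (w (Fin.last k)) * (cR * t ^ n)) • extMul A n ε ω := by
      rw [mul_assoc, mul_smul, mul_smul, ← map_smul (extMul A n _), smul_ιMulti huv, map_smul,
        smul_comm ((s ^ (k + 1)) ^ n), extMul_eq n _ _ _ _ h1, smul_comm, ← map_smul, extScal,
        map_top_smul n huv, map_smul, smul_smul]
    have h3 : (t ^ n) ^ k • (PiTensorProduct.tprod A fun j => W (w j.castSucc)) =
        (∏ j : Fin k, detThrough v (w j.castSucc)) • PiTensorProduct.tprod A fun _ : Fin k => ω := by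
      rw [← MultilinearMap.map_smul_univ]
      have := MultilinearMap.map_smul_univ (PiTensorProduct.tprod A (s := fun _ : Fin k => ⋀[A]^n B))
        (fun _ => t ^ n) (fun j => W (w j.castSucc))
      rw [Finset.prod_const, Finset.card_univ, Fintype.card_fin] at this
      rw [← this]
      exact congrArg _ (funext fun j => smul_ιMulti huv _)
    rw [show t ^ (2 * n) * (s ^ (k + 1)) ^ n * ((t ^ n) ^ k * t ^ n) =
      (t ^ n) ^ k * (t ^ (2 * n) * (s ^ (k + 1)) ^ n * t ^ n) by ring]
    simp only [g]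
    rw [← TensorProduct.smul_tmul_smul, h3, h2, TensorProduct.smul_tmul_smul]
    refine congrArg₂ (· • ·) ?_ rfl
    simp only [P, Fin.prod_univ_castSucc]
    ring
  · obtain ⟨z, hz⟩ := det_block_relation huv T
    exact ⟨z, by linear_combination (P * t ^ (n + N)) * hz⟩

end Wedge

end Groth.Misc4Norm
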