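import Groth.Agent.Misc4Norm.QuasiIso

/-!
Exterior powers over `A` of multiplication maps `B → M`.
-/

set_option autoImplicit false
set_option linter.style.haveILetI false

universe u

open scoped TensorProduct

namespace Groth.Misc4Norm

variable {A B M : Type u} [CommRing A] [CommRing B] [Algebra A B] [AddCommGroup M] [Module A M]
  [Module B M] [IsScalarTower A B M]

/-- Multiplication of scalars with a fixed element. -/
noncomputable def mulBy (A : Type u) [CommRing A] [Algebra A B] [Module A M] [IsScalarTower A B M]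
    (m : M) : B →ₗ[A] M := (LinearMap.toSpanSingleton B M m).restrictScalars A

@[simp] theorem mulBy_apply (m : M) (b : B) : mulBy A m b = b • m := rfl

theorem mulBy_smul_base (t : A) (m : M) : mulBy A (B := B) (t • m) = t • mulBy A m :=
  LinearMap.ext fun x => by simp only [mulBy_apply, LinearMap.smul_apply]; exact smul_comm x t m

theorem mulBy_smul (b : B) (m : M) :
    mulBy A (b • m) = mulBy A m ∘ₗ LinearMap.mulRight A b :=
  LinearMap.ext fun x => by simp [mul_smul]

/-- The exterior power of multiplication of scalars with `m`. -/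
noncomputable def extMul (A : Type u) [CommRing A] [Algebra A B] [Module A M] [IsScalarTower A B M]
    (n : ℕ) (m : M) : ⋀[A]^n B →ₗ[A] ⋀[A]^n M := exteriorPower.map n (mulBy A m)

/-- The exterior power of multiplication by `b`. -/
noncomputable def extScal (A : Type u) [CommRing A] [Algebra A B] (n : ℕ) (b : B) :
    ⋀[A]^n B →ₗ[A] ⋀[A]^n B := exteriorPower.map n (LinearMap.mulRight A b)

theorem extMul_eq (n : ℕ) (t : A) (b : B) (m e : M) (h : t • m = b • e) (x : ⋀[A]^n B) :
    t ^ n • extMul A n m x = extMul A n e (extScal A n b x) := by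
  rw [extMul, extMul, extScal, ← map_smul_eq, ← mulBy_smul_base, h, mulBy_smul,
    exteriorPower.map_comp, LinearMap.comp_apply]

theorem extScal_mul (n : ℕ) (b c : B) (x : ⋀[A]^n B) :
    extScal A n (b * c) x = extScal A n c (extScal A n b x) := by
  rw [extScal, extScal, extScal, ← LinearMap.comp_apply, ← exteriorPower.map_comp]
  congr 2
  exact LinearMap.ext fun y => by simp [mul_assoc]

/-- Near a prime of `A`, a `B`-module of rank one is generated by one element up to a scalar. -/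
theorem exists_line [Module.Finite A B] [Module.Finite B M] [Module.Projective B M]
    (hM : ∀ q : PrimeSpectrum B, Module.rankAtStalk M q = 1) (p : PrimeSpectrum A) :
    ∃ t, t ∉ p.asIdeal ∧ ∃ (e : M) (h : M →ₗ[B] B),
      (∀ m, t • m = h m • e) ∧ h e = algebraMap A B t := by
  obtain ⟨t, ht, f, g, hfg⟩ := exists_basis_semilocal A B M 1 hM p
  have hv : ∀ y : Fin 1 → B, f y = y 0 • f (fun _ => 1) := fun y => by
    rw [← map_smul]
    congr 1
    funext i
    simp [Subsingleton.elim i 0]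
  refine ⟨t, ht, f fun _ => 1, (LinearMap.proj 0).comp g, fun m => ?_, ?_⟩
  · rw [← algebraMap_smul B t m, ← hfg.2 m, hv]; rfl
  · rw [LinearMap.comp_apply, hfg.1]
    simp [Algebra.algebraMap_eq_smul_one]

/-- Quasi-inverse to the exterior power of multiplication by a generator. -/
theorem isQI_extMul (n : ℕ) {t : A} {e : M} {h : M →ₗ[B] B} (h₁ : ∀ m, t • m = h m • e)
    (h₂ : h e = algebraMap A B t) :
    IsQI (t ^ n) (extMul A n e) (exteriorPower.map n (h.restrictScalars A)) :=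
  IsQI.extMap n (show IsQI t (mulBy A e) (h.restrictScalars A) from
    ⟨fun x => by simp [h₂, Algebra.smul_def, mul_comm], fun y => (h₁ y).symm⟩)

/-- Near a prime of `A`, multiplications act on the top exterior power of `B` by scalars. -/
theorem exists_scal [Module.Finite A B] [Module.Projective A B] (n : ℕ)
    (hn : ∀ q : PrimeSpectrum A, Module.rankAtStalk B q = n) (p : PrimeSpectrum A) :
    ∃ T, T ∉ p.asIdeal ∧ ∀ b : B, ∃ c : A, ∀ x, T • extScal A n b x = c • x := by
  obtain ⟨t, ht, u, v, huv⟩ := exists_basis_prime p n (hn p)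
  exact ⟨t ^ (2 * n), fun hc => ht (p.2.mem_of_pow_mem _ hc),
    fun b => ⟨_, fun x => map_top_smul n huv (LinearMap.mulRight A b) x⟩⟩

/-- The norm isomorphism for two lines. -/
theorem nonempty_norm_tensor_equiv {M₁ M₂ : Type u} [AddCommGroup M₁] [Module B M₁] [Module A M₁]
    [IsScalarTower A B M₁] [AddCommGroup M₂] [Module B M₂] [Module A M₂] [IsScalarTower A B M₂]
    [Module.Finite A B] [Module.Projective A B] [Module.Finite B M₁] [Module.Projective B M₁]
    [Module.Finite B M₂] [Module.Projective B M₂] (n : ℕ)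
    (hn : ∀ q : PrimeSpectrum A, Module.rankAtStalk B q = n)
    (h₁ : ∀ q : PrimeSpectrum B, Module.rankAtStalk M₁ q = 1)
    (h₂ : ∀ q : PrimeSpectrum B, Module.rankAtStalk M₂ q = 1) :
    Nonempty ((⋀[A]^n B) ⊗[A] (⋀[A]^n (M₁ ⊗[B] M₂)) ≃ₗ[A] (⋀[A]^n M₁) ⊗[A] (⋀[A]^n M₂)) := by
  let ι := M₁ × M₂ × (⋀[A]^n B) × (⋀[A]^n B)
  let f : ι → (⋀[A]^n B) ⊗[A] (⋀[A]^n (M₁ ⊗[B] M₂)) := fun i =>
    i.2.2.1 ⊗ₜ extMul A n (i.1 ⊗ₜ[B] i.2.1) i.2.2.2
  let g : ι → (⋀[A]^n M₁) ⊗[A] (⋀[A]^n M₂) := fun i =>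
    extMul A n i.1 i.2.2.1 ⊗ₜ extMul A n i.2.1 i.2.2.2
  refine nonempty_equiv_of_local f g fun p => ?_
  obtain ⟨t₁, ht₁, e₁, k₁, hm₁, he₁⟩ := exists_line (A := A) h₁ p
  obtain ⟨t₂, ht₂, e₂, k₂, hm₂, he₂⟩ := exists_line (A := A) h₂ p
  obtain ⟨T, hT, hc⟩ := exists_scal n hn p
  let k : M₁ ⊗[B] M₂ →ₗ[B] B :=
    (TensorProduct.lid B B).toLinearMap.comp (TensorProduct.map k₁ k₂)
  have hk : ∀ x y, k (x ⊗ₜ y) = k₁ x * k₂ y := fun x y => by simp [k]
  have hm : ∀ z, (t₁ * t₂) • z = k z • (e₁ ⊗ₜ[B] e₂) := by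
    intro z
    induction z using TensorProduct.induction_on with
    | zero => simp
    | add x y hx hy => rw [smul_add, hx, hy, map_add, add_smul]
    | tmul x y =>
      rw [hk, ← TensorProduct.smul_tmul_smul, ← hm₁, ← hm₂, TensorProduct.tmul_smul, ← TensorProduct.smul_tmul',
        smul_smul, mul_comm]
  have he : k (e₁ ⊗ₜ e₂) = algebraMap A B (t₁ * t₂) := by rw [hk, he₁, he₂, map_mul]
  have q₁ := isQI_extMul n hm₁ he₁
  have q₂ := isQI_extMul n hm₂ he₂
  have q := isQI_extMul n hm he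
  let U := t₁ ^ n * t₂ ^ n
  let K := (T * t₁ ^ n) * (T * t₂ ^ n)
  have hp : ∀ {a b : A}, a ∉ p.asIdeal → b ∉ p.asIdeal → a * b ∉ p.asIdeal := fun ha hb hab =>
    (p.2.mem_or_mem hab).elim ha hb
  have hpow : ∀ {a : A}, a ∉ p.asIdeal → a ^ n ∉ p.asIdeal := fun ha h => ha (p.2.mem_of_pow_mem _ h)
  have key : ∀ m₁ m₂, ∃ c : A, ∀ ω ω', K • f (m₁, m₂, ω, ω') = c • f (e₁, e₂, ω, ω') ∧
      K • g (m₁, m₂, ω, ω') = c • g (e₁, e₂, ω, ω') := by
    intro m₁ m₂
    obtain ⟨c₁, hc₁⟩ := hc (k₁ m₁)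
    obtain ⟨c₂, hc₂⟩ := hc (k₂ m₂)
    refine ⟨c₁ * c₂, fun ω ω' => ⟨?_, ?_⟩⟩
    · have hz : (t₁ ^ n * t₂ ^ n) • extMul A n (m₁ ⊗ₜ[B] m₂) ω' =
          extMul A n (e₁ ⊗ₜ[B] e₂) (extScal A n (k₂ m₂) (extScal A n (k₁ m₁) ω')) := by
        rw [← extScal_mul, ← hk, ← mul_pow]
        exact extMul_eq n _ _ _ _ (hm _) _
      have h' : (T * T) • extScal A n (k₂ m₂) (extScal A n (k₁ m₁) ω') = (c₁ * c₂) • ω' := by
        rw [mul_smul, ← map_smul, hc₁, map_smul, smul_comm, hc₂, smul_smul]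
      calc K • f (m₁, m₂, ω, ω')
          = ω ⊗ₜ ((T * T) • ((t₁ ^ n * t₂ ^ n) • extMul A n (m₁ ⊗ₜ[B] m₂) ω')) := by
            simp only [f, K, ← TensorProduct.tmul_smul, smul_smul]
            congr 2; ring
        _ = (c₁ * c₂) • f (e₁, e₂, ω, ω') := by
            rw [hz, ← map_smul, h', map_smul, TensorProduct.tmul_smul]
    · have z₁ : (T * t₁ ^ n) • extMul A n m₁ ω = c₁ • extMul A n e₁ ω := by
        rw [mul_smul, extMul_eq n _ _ _ _ (hm₁ _), ← map_smul, hc₁, map_smul]
      have z₂ : (T * t₂ ^ n) • extMul A n m₂ ω' = c₂ • extMul A n e₂ ω' := by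
        rw [mul_smul, extMul_eq n _ _ _ _ (hm₂ _), ← map_smul, hc₂, map_smul]
      simp only [g, K]
      rw [← TensorProduct.smul_tmul_smul, z₁, z₂, TensorProduct.smul_tmul_smul]
  refine ⟨U * K, hp (hp (hpow ht₁) (hpow ht₂)) (hp (hp hT (hpow ht₁)) (hp hT (hpow ht₂))),
    ⟨K • (TensorProduct.map (extMul A n e₁) (extMul A n e₂) ∘ₗ
      TensorProduct.map LinearMap.id (exteriorPower.map n (k.restrictScalars A))), ?_⟩,
    ⟨K • (TensorProduct.map LinearMap.id (extMul A n (e₁ ⊗ₜ[B] e₂)) ∘ₗ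
      TensorProduct.map (exteriorPower.map n (k₁.restrictScalars A))
        (exteriorPower.map n (k₂.restrictScalars A))), ?_⟩, ?_, ?_⟩
  · rintro ⟨m₁, m₂, ω, ω'⟩
    obtain ⟨c, hck⟩ := key m₁ m₂
    rw [LinearMap.smul_apply, ← map_smul, (hck ω ω').1, map_smul, mul_smul, (hck ω ω').2]
    simp only [f, g, LinearMap.comp_apply, TensorProduct.map_tmul, LinearMap.id_apply, q.1,
      map_smul, TensorProduct.tmul_smul, smul_smul, U, mul_pow]
    congr 1; ring
  · rintro ⟨m₁, m₂, ω, ω'⟩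
    obtain ⟨c, hck⟩ := key m₁ m₂
    rw [LinearMap.smul_apply, ← map_smul, (hck ω ω').2, map_smul, mul_smul, (hck ω ω').1]
    simp only [f, g, LinearMap.comp_apply, TensorProduct.map_tmul, LinearMap.id_apply, q₁.1, q₂.1,
      map_smul, TensorProduct.tmul_smul, ← TensorProduct.smul_tmul', smul_smul, U]
    congr 1; ring
  · intro x
    induction x using TensorProduct.induction_on with
    | zero => simp
    | add x y hx hy => rw [smul_add]; exact add_mem hx hy
    | tmul a b =>
      have : f (e₁, e₂, a, exteriorPower.map n (k.restrictScalars A) b) = U • (a ⊗ₜ[A] b) := by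
        simp only [f, q.2, TensorProduct.tmul_smul, U, mul_pow]
      rw [mul_comm, mul_smul, ← this]
      exact Submodule.smul_mem _ _ (Submodule.subset_span ⟨_, rfl⟩)
  · intro x
    induction x using TensorProduct.induction_on with
    | zero => simp
    | add x y hx hy => rw [smul_add]; exact add_mem hx hy
    | tmul a b =>
      have : g (e₁, e₂, exteriorPower.map n (k₁.restrictScalars A) a,
          exteriorPower.map n (k₂.restrictScalars A) b) = U • (a ⊗ₜ[A] b) := by
        simp only [g, q₁.2, q₂.2, TensorProduct.smul_tmul_smul, U]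
      rw [mul_comm, mul_smul, ← this]
      exact Submodule.smul_mem _ _ (Submodule.subset_span ⟨_, rfl⟩)

end Groth.Misc4Norm
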