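import Mathlib

/-!
Quasi-isomorphisms of modules (isomorphisms up to a scalar `t`): existence near a prime, exterior
powers, and a criterion for an isomorphism given by two families of generators.
-/

set_option autoImplicit false
set_option linter.style.haveILetI false

universe u v w

open scoped TensorProduct

namespace Groth.Misc4Norm

variable {R : Type u} [CommRing R]

/-- `f` is invertible up to the scalar `t`. -/
def IsQI {M : Type v} {N : Type w} [AddCommGroup M] [Module R M] [AddCommGroup N] [Module R N]
    (t : R) (f : M →ₗ[R] N) (g : N →ₗ[R] M) : Prop :=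
  (∀ x, g (f x) = t • x) ∧ ∀ y, f (g y) = t • y

/-- An isomorphism of localisations lifts to an isomorphism up to an element of the submonoid. -/
theorem exists_isQI {M N : Type v} [AddCommGroup M] [Module R M] [AddCommGroup N] [Module R N]
    [Module.FinitePresentation R M] [Module.FinitePresentation R N] (S : Submonoid R)
    (e : LocalizedModule S M ≃ₗ[R] LocalizedModule S N) :
    ∃ t ∈ S, ∃ (f : M →ₗ[R] N) (g : N →ₗ[R] M), IsQI t f g := by
  let a := LocalizedModule.mkLinearMap S M
  let b := LocalizedModule.mkLinearMap S N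
  obtain ⟨l, s₁, h₁⟩ := Module.FinitePresentation.exists_lift_of_isLocalizedModule S b
    (e.toLinearMap ∘ₗ a)
  obtain ⟨l', s₂, h₂⟩ := Module.FinitePresentation.exists_lift_of_isLocalizedModule S a
    (e.symm.toLinearMap ∘ₗ b)
  have h₁' : ∀ x, b (l x) = (s₁ : R) • e (a x) := fun x => LinearMap.congr_fun h₁ x
  have h₂' : ∀ y, a (l' y) = (s₂ : R) • e.symm (b y) := fun y => LinearMap.congr_fun h₂ y
  obtain ⟨c, hc⟩ := Module.Finite.exists_smul_of_comp_eq_of_isLocalizedModule S a (l' ∘ₗ l)
    (((s₁ * s₂ : S) : R) • LinearMap.id) (by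
      ext x
      simp only [LinearMap.comp_apply, h₂', h₁', map_smul, LinearEquiv.symm_apply_apply,
        LinearMap.smul_apply, LinearMap.id_apply, smul_smul]
      simp [mul_comm])
  obtain ⟨d, hd⟩ := Module.Finite.exists_smul_of_comp_eq_of_isLocalizedModule S b (l ∘ₗ l')
    (((s₁ * s₂ : S) : R) • LinearMap.id) (by
      ext y
      simp only [LinearMap.comp_apply, h₁', h₂', map_smul, LinearEquiv.apply_symm_apply,
        LinearMap.smul_apply, LinearMap.id_apply, smul_smul]
      simp [mul_comm])
  refine ⟨((c * d * (s₁ * s₂) : S) : R), SetLike.coe_mem _, l, ((c * d : S) : R) • l', fun x => ?_,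
    fun y => ?_⟩
  · have h : (c : R) • l' (l x) = (c : R) • (((s₁ * s₂ : S) : R) • x) := LinearMap.congr_fun hc x
    rw [LinearMap.smul_apply, show ((c * d : S) : R) = (d : R) * c by simp [mul_comm], mul_smul, h,
      smul_smul, smul_smul]
    congr 1
    simp only [Submonoid.coe_mul]; ring
  · have h : (d : R) • l (l' y) = (d : R) • (((s₁ * s₂ : S) : R) • y) := LinearMap.congr_fun hd y
    rw [LinearMap.smul_apply, map_smul, show ((c * d : S) : R) = (c : R) * d from rfl, mul_smul, h, smul_smul, smul_smul]
    congr 1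

/-- A finite projective module of rank `n` at a prime has a basis up to an element outside it. -/
theorem exists_basis_prime {M : Type u} [AddCommGroup M] [Module R M] [Module.Finite R M]
    [Module.Projective R M] (q : PrimeSpectrum R) (n : ℕ) (h : Module.rankAtStalk M q = n) :
    ∃ t, t ∉ q.asIdeal ∧ ∃ (f : (Fin n → R) →ₗ[R] M) (g : M →ₗ[R] (Fin n → R)), IsQI t f g := by
  haveI : Module.FinitePresentation R M := Module.finitePresentation_of_projective R M
  haveI : Module.Free (Localization.AtPrime q.asIdeal) (LocalizedModule q.asIdeal.primeCompl M) :=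
    Module.free_of_flat_of_isLocalRing
  haveI : Module.Free (Localization.AtPrime q.asIdeal)
      (LocalizedModule q.asIdeal.primeCompl (Fin n → R)) :=
    Module.free_of_flat_of_isLocalRing
  haveI : Nontrivial R := ⟨⟨0, 1, fun h0 => q.2.ne_top ((Ideal.eq_top_iff_one _).2
    (h0 ▸ zero_mem _))⟩⟩
  have hn : Module.rankAtStalk (R := R) (Fin n → R) q = n := by
    simp [Module.rankAtStalk_eq_finrank_of_free]
  obtain ⟨e⟩ := FiniteDimensional.nonempty_linearEquiv_of_finrank_eq
    (R := Localization.AtPrime q.asIdeal) (M := LocalizedModule q.asIdeal.primeCompl (Fin n → R))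
    (M' := LocalizedModule q.asIdeal.primeCompl M) (hn.trans h.symm)
  obtain ⟨t, ht, f, g, hfg⟩ := exists_isQI q.asIdeal.primeCompl (e.restrictScalars R)
  exact ⟨t, ht, f, g, hfg⟩

/-- A finite projective `B`-module of rank `k` has, near a prime of `A`, a basis up to an element
of `A`, when `B` is finite over `A`. -/
theorem exists_basis_semilocal (A B : Type u) [CommRing A] [CommRing B] [Algebra A B]
    [Module.Finite A B] (M : Type u) [AddCommGroup M] [Module B M] [Module.Finite B M]
    [Module.Projective B M] (k : ℕ) (hk : ∀ q : PrimeSpectrum B, Module.rankAtStalk M q = k)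
    (p : PrimeSpectrum A) :
    ∃ t, t ∉ p.asIdeal ∧ ∃ (f : (Fin k → B) →ₗ[B] M) (g : M →ₗ[B] (Fin k → B)),
      IsQI (algebraMap A B t) f g := by
  let S := Algebra.algebraMapSubmonoid B p.asIdeal.primeCompl
  let L := Localization S
  haveI : Finite (MaximalSpectrum L) := by
    have hfin := Algebra.QuasiFinite.finite_primesOver (S := B) p.asIdeal
    haveI := hfin.to_subtype
    have key : ∀ P : MaximalSpectrum L,
        P.asIdeal.comap (algebraMap B L) ∈ p.asIdeal.primesOver B := by
      intro P
      let q := P.asIdeal.comap (algebraMap B L)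
      have hq := (IsLocalization.isPrime_iff_isPrime_disjoint S L P.asIdeal).mp P.isMaximal.isPrime
      haveI : q.IsPrime := hq.1
      have hle : q.comap (algebraMap A B) ≤ p.asIdeal := fun a ha => by
        by_contra hap
        exact Set.disjoint_left.mp hq.2 (Algebra.mem_algebraMapSubmonoid_of_mem ⟨a, hap⟩) ha
      obtain ⟨Q, hQ, hQp, hQc⟩ :=
        Ideal.exists_ideal_over_prime_of_isIntegral_of_isPrime p.asIdeal q hle
      have hd : Disjoint (S : Set B) (Q : Set B) := by
        rw [Set.disjoint_left]
        rintro b ⟨a, ha, rfl⟩ hb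
        exact ha (hQc ▸ (Ideal.mem_comap.mpr hb))
      have hprime := IsLocalization.isPrime_of_isPrime_disjoint S L Q hQp hd
      have hPle : P.asIdeal ≤ Q.map (algebraMap B L) := by
        rw [← IsLocalization.map_under S L P.asIdeal]
        exact Ideal.map_mono hQ
      have hPQ := P.isMaximal.eq_of_le hprime.ne_top hPle
      refine ⟨hq.1, ⟨?_⟩⟩
      show p.asIdeal = (P.asIdeal.comap (algebraMap B L)).comap (algebraMap A B)
      rw [hPQ, ← hQc]
      exact congrArg _ (IsLocalization.under_map_of_isPrime_disjoint S L hQp hd).symm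
    refine Finite.of_injective
      (fun P : MaximalSpectrum L => (⟨_, key P⟩ : p.asIdeal.primesOver B)) fun P P' h => ?_
    have h' : P.asIdeal.comap (algebraMap B L) = P'.asIdeal.comap (algebraMap B L) :=
      congrArg Subtype.val h
    exact MaximalSpectrum.ext ((IsLocalization.map_under S L P.asIdeal).symm.trans
      ((congrArg (Ideal.map (algebraMap B L)) h').trans (IsLocalization.map_under S L P'.asIdeal)))
  haveI : Module.FinitePresentation B M := Module.finitePresentation_of_projective B M
  have hrk : ∀ P : MaximalSpectrum L, Module.finrank (L ⧸ P.asIdeal)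
      ((L ⧸ P.asIdeal) ⊗[L] LocalizedModule S M) = k := by
    intro P
    letI := Ideal.Quotient.field P.asIdeal
    have h1 : Module.rankAtStalk (R := L) (LocalizedModule S M)
        ⟨P.asIdeal, P.isMaximal.isPrime⟩ = k := by
      rw [Module.rankAtStalk_isBaseChange
        ((isLocalizedModule_iff_isBaseChange S L (LocalizedModule.mkLinearMap S M)).mp
          inferInstance)]
      exact hk _
    rw [Module.rankAtStalk_eq] at h1
    rw [← Module.finrank_baseChange (R := P.asIdeal.ResidueField) (S := L ⧸ P.asIdeal),
      (TensorProduct.AlgebraTensorModule.cancelBaseChange L (L ⧸ P.asIdeal)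
        P.asIdeal.ResidueField P.asIdeal.ResidueField (LocalizedModule S M)).finrank_eq]
    exact h1
  obtain ⟨b⟩ := Module.nonempty_basis_of_flat_of_finrank_eq L (LocalizedModule S M) k hrk
  have b' : Module.Basis (Fin k) L (LocalizedModule S (Fin k → B)) :=
    (Pi.basisFun B (Fin k)).ofIsLocalizedModule L S (LocalizedModule.mkLinearMap S (Fin k → B))
  obtain ⟨t, ⟨a, ha, rfl⟩, f, g, hfg⟩ :=
    exists_isQI S ((b'.equiv b (Equiv.refl _)).restrictScalars B)
  exact ⟨a, ha, f, g, hfg⟩

/-- An isomorphism of modules with prescribed values on generators, from local comparisons. -/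
theorem nonempty_equiv_of_local {ι : Type v} {L P : Type u} [AddCommGroup L] [Module R L]
    [AddCommGroup P] [Module R P] (f : ι → L) (g : ι → P)
    (h : ∀ p : PrimeSpectrum R, ∃ t, t ∉ p.asIdeal ∧
      (∃ φ : L →ₗ[R] P, ∀ i, φ (f i) = t • g i) ∧ (∃ ψ : P →ₗ[R] L, ∀ i, ψ (g i) = t • f i) ∧
      (∀ x, t • x ∈ Submodule.span R (Set.range f)) ∧
      (∀ y, t • y ∈ Submodule.span R (Set.range g))) :
    Nonempty (L ≃ₗ[R] P) := by
  have key : ∀ {Q : Type u} [AddCommGroup Q] [Module R Q] (U : Submodule R Q) (x : Q),
      (∀ p : PrimeSpectrum R, ∃ t, t ∉ p.asIdeal ∧ t • x ∈ U) → x ∈ U := by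
    intro Q _ _ U x hx
    let J : Ideal R := U.comap (LinearMap.toSpanSingleton R Q x)
    by_contra hne
    have hJ : J ≠ ⊤ := fun hT => hne (by
      have : (1 : R) ∈ J := hT ▸ Submodule.mem_top
      simpa [J] using this)
    obtain ⟨m, hm, hle⟩ := Ideal.exists_le_maximal J hJ
    obtain ⟨t, ht, htx⟩ := hx ⟨m, hm.isPrime⟩
    exact ht (hle (by simpa [J] using htx))
  let F := Finsupp.linearCombination R f
  let G := Finsupp.linearCombination R g
  have hF : Function.Surjective F := by
    rw [← LinearMap.range_eq_top, Finsupp.range_linearCombination, eq_top_iff]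
    intro x _
    exact key _ x fun p => ⟨_, (h p).choose_spec.1, (h p).choose_spec.2.2.2.1 x⟩
  have hG : Function.Surjective G := by
    rw [← LinearMap.range_eq_top, Finsupp.range_linearCombination, eq_top_iff]
    intro x _
    exact key _ x fun p => ⟨_, (h p).choose_spec.1, (h p).choose_spec.2.2.2.2 x⟩
  have hker : LinearMap.ker F = LinearMap.ker G := by
    ext z
    simp only [LinearMap.mem_ker]
    constructor <;> intro hz <;> refine (Submodule.mem_bot R).mp (key ⊥ _ fun p => ?_)
    · obtain ⟨t, ht, ⟨φ, hφ⟩, -, -, -⟩ := h p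
      have hcomp : φ ∘ₗ F = t • G := by ext i; simp [F, G, hφ]
      exact ⟨t, ht, (Submodule.mem_bot R).mpr (by
        have := LinearMap.congr_fun hcomp z
        rw [LinearMap.comp_apply, hz, map_zero, LinearMap.smul_apply] at this
        exact this.symm)⟩
    · obtain ⟨t, ht, -, ⟨ψ, hψ⟩, -, -⟩ := h p
      have hcomp : ψ ∘ₗ G = t • F := by ext i; simp [F, G, hψ]
      exact ⟨t, ht, (Submodule.mem_bot R).mpr (by
        have := LinearMap.congr_fun hcomp z
        rw [LinearMap.comp_apply, hz, map_zero, LinearMap.smul_apply] at this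
        exact this.symm)⟩
  exact ⟨(F.quotKerEquivOfSurjective hF).symm ≪≫ₗ (Submodule.quotEquivOfEq _ _ hker) ≪≫ₗ
    G.quotKerEquivOfSurjective hG⟩

section Ext

variable {M : Type v} {N : Type w} [AddCommGroup M] [Module R M] [AddCommGroup N] [Module R N] (n : ℕ)

theorem map_smul_eq (t : R) (f : M →ₗ[R] N) (x : ⋀[R]^n M) :
    exteriorPower.map n (t • f) x = t ^ n • exteriorPower.map n f x := by
  have h : exteriorPower.map n (t • f) = t ^ n • exteriorPower.map n f := by
    refine exteriorPower.linearMap_ext ?_
    ext m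
    simp only [LinearMap.compAlternatingMap_apply, exteriorPower.map_apply_ιMulti,
      LinearMap.smul_apply]
    have := (exteriorPower.ιMulti R n).map_smul_univ (fun _ => t) (f ∘ m)
    simpa [Function.comp_def] using congrArg Subtype.val this
  rw [h, LinearMap.smul_apply]

theorem map_smul_id (t : R) (x : ⋀[R]^n M) :
    exteriorPower.map n (t • (LinearMap.id : M →ₗ[R] M)) x = t ^ n • x := by
  rw [map_smul_eq, exteriorPower.map_id, LinearMap.id_apply]

theorem IsQI.extMap {t : R} {f : M →ₗ[R] N} {g : N →ₗ[R] M} (h : IsQI t f g) :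
    IsQI (t ^ n) (exteriorPower.map n f) (exteriorPower.map n g) := by
  constructor
  · intro x
    have : g ∘ₗ f = t • LinearMap.id := LinearMap.ext h.1
    rw [← LinearMap.comp_apply, ← exteriorPower.map_comp, this, map_smul_id]
  · intro x
    have : f ∘ₗ g = t • LinearMap.id := LinearMap.ext h.2
    rw [← LinearMap.comp_apply, ← exteriorPower.map_comp, this, map_smul_id]

/-- A top wedge in a free module is the determinant times the wedge of the basis. -/
theorem ιMulti_basis (b : Module.Basis (Fin n) R M) (v : Fin n → M) :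
    exteriorPower.ιMulti R n v = b.det v • exteriorPower.ιMulti R n b := by
  suffices key : (exteriorPower.ιMulti R n (M := M)) =
      (LinearMap.id.smulRight (exteriorPower.ιMulti R n b) : R →ₗ[R] ⋀[R]^n M).compAlternatingMap
        b.det from congrFun (congrArg DFunLike.coe key) v
  refine b.ext_alternating fun σ hσ => ?_
  obtain ⟨e, rfl⟩ : ∃ e : Equiv.Perm (Fin n), ⇑e = σ :=
    ⟨Equiv.ofBijective σ hσ.bijective_of_finite, rfl⟩
  rw [LinearMap.compAlternatingMap_apply, LinearMap.smulRight_apply, LinearMap.id_apply,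
    show (fun i => b (e i)) = ⇑b ∘ ⇑e from rfl, AlternatingMap.map_perm, AlternatingMap.map_perm,
    Module.Basis.det_self, Units.smul_def, Units.smul_def, zsmul_eq_mul, mul_one,
    Int.cast_smul_eq_zsmul]

/-- On the top exterior power of a free module an endomorphism acts by its determinant. -/
theorem map_basis_det (b : Module.Basis (Fin n) R M) (f : M →ₗ[R] M) :
    exteriorPower.map n f = LinearMap.det f • LinearMap.id := by
  refine exteriorPower.linearMap_ext ?_
  ext v
  simp only [LinearMap.compAlternatingMap_apply, exteriorPower.map_apply_ιMulti,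
    LinearMap.smul_apply, LinearMap.id_apply]
  rw [ιMulti_basis n b (f ∘ v), Module.Basis.det_comp, ιMulti_basis n b v, smul_smul]

/-- With a basis up to `t`, an endomorphism acts on the top exterior power, up to a power of `t`,
by a determinant. -/
theorem map_top_smul {t : R} {u : (Fin n → R) →ₗ[R] M} {v : M →ₗ[R] (Fin n → R)} (h : IsQI t u v)
    (F : M →ₗ[R] M) (x : ⋀[R]^n M) :
    t ^ (2 * n) • exteriorPower.map n F x = (LinearMap.det (v ∘ₗ F ∘ₗ u) * t ^ n) • x := by
  have h1 : (t * t) • F = u ∘ₗ (v ∘ₗ F ∘ₗ u) ∘ₗ v := by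
    ext y
    simp only [LinearMap.comp_apply, h.2, map_smul, LinearMap.smul_apply, smul_smul]
  rw [show t ^ (2 * n) = (t * t) ^ n by ring, ← map_smul_eq, h1, exteriorPower.map_comp,
    exteriorPower.map_comp, map_basis_det n (Pi.basisFun R (Fin n)), LinearMap.comp_apply,
    LinearMap.comp_apply, LinearMap.smul_apply, LinearMap.id_apply, map_smul,
    (h.extMap n).2, smul_smul]

end Ext

end Groth.Misc4Norm
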